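import Cfsg.Agent.H351.HalfTransRed
import Cfsg.Agent.Solvable.UniqueOrderP
import Cfsg.Agent.Lib.NormalAbelian

set_option autoImplicit false
set_option linter.style.haveILetI false

/-!
# A noncyclic normal abelian subgroup gives a small normal elementary abelian subgroup
-/

namespace Cfsg.Agent.H351.HT

/-- In a `p`-group with a noncyclic abelian normal subgroup there is a normal elementary abelian
subgroup `⟨z⟩ × ⟨b⟩` of order `p ^ 2` with `z` central. -/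
theorem exists_config {G : Type*} [Group G] [Finite G] {p : ℕ} [hp : Fact p.Prime] (hG : IsPGroup p G)
    (A : Subgroup G) [hA : A.Normal] (hAc : IsMulCommutative A) (hnc : ¬ IsCyclic A) :
    ∃ z b : G, (∀ g : G, g * z = z * g) ∧ orderOf z = p ∧ b ^ p = 1 ∧ b ∉ Subgroup.zpowers z ∧
      ∀ g : G, ∃ i : ℕ, g * b * g⁻¹ = b * z ^ i := by
  have hcomm : ∀ a ∈ A, ∀ b ∈ A, a * b = b * a := fun a ha b hb =>
    congrArg Subtype.val (isMulCommutative_iff.1 hAc ⟨a, ha⟩ ⟨b, hb⟩)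
  have hnu : ¬ Cfsg.Agent.Solvable.UniqueOrderP.UniqueP p A := by
    intro hU
    apply hnc
    obtain ⟨a, ha⟩ := Cfsg.Agent.Solvable.UniqueOrderP.exists_eq_zpowers_of_comm p (hG.to_subgroup A) hU ⊤
      (by
        refine isMulCommutative_iff.2 ?_
        rintro ⟨a, -⟩ ⟨b, -⟩
        exact Subtype.ext (isMulCommutative_iff.1 hAc a b))
    exact isCyclic_iff_exists_zpowers_eq_top.2 ⟨a, ha.symm⟩
  rw [Cfsg.Agent.Solvable.UniqueOrderP.uniqueP_def] at hnu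
  push Not at hnu
  obtain ⟨x, y, hx1, hxp, hyp, hxy⟩ := hnu
  let Ω : Subgroup G :=
    { carrier := {g | g ∈ A ∧ g ^ p = 1}
      one_mem' := ⟨A.one_mem, one_pow _⟩
      mul_mem' := by
        rintro a b ⟨ha, ha'⟩ ⟨hb, hb'⟩
        refine ⟨A.mul_mem ha hb, ?_⟩
        have : Commute a b := hcomm a ha b hb
        rw [this.mul_pow, ha', hb', one_mul]
      inv_mem' := by
        rintro a ⟨ha, ha'⟩
        exact ⟨A.inv_mem ha, by rw [inv_pow, ha', inv_one]⟩ }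
  have hΩmem : ∀ g, g ∈ Ω ↔ g ∈ A ∧ g ^ p = 1 := fun g => Iff.rfl
  have hΩn : Ω.Normal := by
    refine ⟨fun n hn g => ?_⟩
    rw [hΩmem] at hn ⊢
    exact ⟨hA.conj_mem n hn.1 g, by rw [conj_pow, hn.2]; group⟩
  have hxΩ : (x : G) ∈ Ω := ⟨x.2, by exact_mod_cast congrArg Subtype.val hxp⟩
  have hyΩ : (y : G) ∈ Ω := ⟨y.2, by exact_mod_cast congrArg Subtype.val hyp⟩
  have hΩne : Ω ≠ ⊥ := by
    intro h
    rw [h, Subgroup.mem_bot] at hxΩ
    exact hx1 (Subtype.ext hxΩ)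
  haveI : Group.IsNilpotent G := hG.isNilpotent
  have h1 := Cfsg.Agent.Lib.NormalAbelian.normal_inf_center_ne_bot Ω hΩne
  obtain ⟨⟨z, hz⟩, hz1⟩ := Subgroup.ne_bot_iff_exists_ne_one.1 h1
  have hzc : ∀ g : G, g * z = z * g := fun g => Subgroup.mem_center_iff.1 hz.2 g
  have hzo : orderOf (z : G) = p := orderOf_eq_prime hz.1.2 (fun h => hz1 (Subtype.ext h))
  let Z := Subgroup.zpowers (z : G)
  haveI hZn : Z.Normal := by
    refine ⟨fun n hn g => ?_⟩
    obtain ⟨k, rfl⟩ := Subgroup.mem_zpowers_iff.1 hn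
    rw [← conj_zpow, hzc g, mul_inv_cancel_right]
    exact Subgroup.zpow_mem_zpowers _ _
  have hZΩ : Z ≤ Ω := Subgroup.zpowers_le.2 hz.1
  have hne : ¬ Ω ≤ Z := by
    intro hle
    have hcard : Nat.card Z = p := by rw [Nat.card_zpowers, hzo]
    haveI : Fact (Nat.card Z).Prime := ⟨by rw [hcard]; exact hp.out⟩
    have hxne : (⟨x, hle hxΩ⟩ : Z) ≠ 1 := fun h =>
      hx1 (Subtype.ext (congrArg (fun t : Z => (t : G)) h))
    have h2 := zpowers_eq_top_of_prime_card rfl hxne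
    have h3 : (⟨y, hle hyΩ⟩ : Z) ∈ Subgroup.zpowers (⟨x, hle hxΩ⟩ : Z) := by rw [h2]; trivial
    obtain ⟨k, hk⟩ := Subgroup.mem_zpowers_iff.1 h3
    apply hxy
    refine Subgroup.mem_zpowers_iff.2 ⟨k, Subtype.ext ?_⟩
    simpa using congrArg Subtype.val hk
  let Q := G ⧸ Z
  haveI : Group.IsNilpotent Q := (hG.to_quotient Z).isNilpotent
  let Ω' : Subgroup Q := Ω.map (QuotientGroup.mk' Z)
  haveI : Ω'.Normal := hΩn.map _ (QuotientGroup.mk'_surjective Z)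
  have hΩ'ne : Ω' ≠ ⊥ := by
    intro h
    apply hne
    have := (Subgroup.map_eq_bot_iff Ω).1 h
    rwa [QuotientGroup.ker_mk'] at this
  have h2 := Cfsg.Agent.Lib.NormalAbelian.normal_inf_center_ne_bot Ω' hΩ'ne
  obtain ⟨⟨c, hc⟩, hc1⟩ := Subgroup.ne_bot_iff_exists_ne_one.1 h2
  obtain ⟨b, hb, hbc⟩ := hc.1
  have hbZ : b ∉ Z := by
    intro h
    apply hc1
    apply Subtype.ext
    show c = 1
    rw [← hbc]
    exact (QuotientGroup.eq_one_iff b).2 h
  refine ⟨z, b, hzc, hzo, hb.2, hbZ, ?_⟩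
  intro g
  have h3 := Subgroup.mem_center_iff.1 hc.2 (QuotientGroup.mk' Z g)
  have h4 : QuotientGroup.mk' Z b = QuotientGroup.mk' Z (g * b * g⁻¹) := by
    rw [map_mul, map_mul, map_inv, hbc, h3, mul_inv_cancel_right]
  have h5 : b⁻¹ * (g * b * g⁻¹) ∈ Z := QuotientGroup.eq.1 h4
  obtain ⟨k, hk⟩ := (Submonoid.mem_powers_iff _ _).1 (mem_powers_iff_mem_zpowers.2 h5)
  exact ⟨k, by rw [hk]; group⟩

end Cfsg.Agent.H351.HT
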