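import Cfsg.Agent.H351.F4Out.Seven
import Cfsg.Agent.Lib.FieldAutCard
import Cfsg.Agent.S2122
import Cfsg.Agent.H373.Recog

/-!
# The automorphisms of `F₄(q)` and element orders (helper351, for S3479)

* `autOk_F4` : `q` a power of 2, 3, 7 or 11, `A` a group of automorphisms of `F₄(q)` containing the inner ones; if the order
  of every element of `A` is the order of an element of `F₄(q)` then `A` consists of inner automorphisms.
-/

set_option autoImplicit false
set_option linter.unusedSectionVars false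

namespace Cfsg.Agent.H351.F4Out

open Cfsg Cfsg.Lie Cfsg.Agent.CpAut.RgdUntw Cfsg.Agent.ChevalleyStructure.Elts Cfsg.Agent.H70.ChevFix
  Cfsg.Agent.H69.OutGF Cfsg.Agent.H351.F4Out.Elt Cfsg.Agent.H70.OutCount Cfsg.Agent.H70.ChevDiag
  Cfsg.Agent.H351.F4Out.Fld Cfsg.Agent.H523.Chev

universe u

variable {F : Type u} [Field F] [Fintype F]

/-- **Field automorphisms of prime order.** -/
theorem no_fld (p : ℕ) [CharP F p] (hp : p = 2 ∨ p = 3 ∨ p = 7 ∨ p = 11) {A : Subgroup (MulAut ↥(chevF4.group F))}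
    (hA : (MulAut.conj : ↥(chevF4.group F) →* MulAut ↥(chevF4.group F)).range ≤ A)
    (hord : ∀ a ∈ A, ∃ y : ↥(chevF4.group F), orderOf y = orderOf a) {τ : F ≃+* F} {r : ℕ} (hr : r.Prime)
    (hτ : orderOf τ = r) : fldHom F τ ∉ A := by
  by_cases h2 : r = 2
  · subst h2
    rcases hp with rfl | rfl | rfl | rfl
    · exact no_two_two hA hord hτ
    · exact no_two_three hA hord hτ
    · exact Seven.no_two_seven hA hord hτ
    · exact no_two_eleven hA hord hτ
  · exact no_odd hA hord hr h2 hτ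

theorem finite_gal (F : Type*) [Field F] [Finite F] : Finite (F ≃+* F) :=
  Finite.of_injective (fun τ : F ≃+* F => (τ : F → F)) DFunLike.coe_injective

/-- The Galois group embeds in the outer automorphism group. -/
theorem gal_inj (p : ℕ) [CharP F p] (hp : p = 2 ∨ p = 3 ∨ p = 7 ∨ p = 11) :
    Function.Injective ((QuotientGroup.mk' (Inn ↥(chevF4.group F))).comp (fldHom F)) := by
  classical
  have hfinE := finite_gal F
  rw [← MonoidHom.ker_eq_bot_iff]
  by_contra hne
  obtain ⟨⟨τ, hτ⟩, hτ1⟩ := Subgroup.ne_bot_iff_exists_ne_one.1 hne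
  have hτ1' : τ ≠ 1 := fun h => hτ1 (Subtype.ext h)
  have ho : orderOf τ ≠ 1 := fun h => hτ1' (orderOf_eq_one_iff.1 h)
  obtain ⟨r, hr, hd⟩ := Nat.exists_prime_and_dvd ho
  obtain ⟨j, hj⟩ := exists_pow_orderOf hd (orderOf_pos τ).ne'
  have hσk : τ ^ j ∈ ((QuotientGroup.mk' (Inn ↥(chevF4.group F))).comp (fldHom F)).ker := Subgroup.pow_mem _ hτ j
  have hσm : fldHom F (τ ^ j) ∈ Inn ↥(chevF4.group F) := by
    rw [MonoidHom.mem_ker] at hσk
    exact (QuotientGroup.eq_one_iff _).1 hσk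
  refine no_fld p hp (A := Inn ↥(chevF4.group F)) le_rfl ?_ hr hj hσm
  rintro _ ⟨y, rfl⟩
  exact ⟨y, (orderOf_conj y).symm⟩

/-- the two elements of order two of a cyclic group -/
theorem eq_of_cyclic {C : Type*} [Group C] [Finite C] [IsCyclic C] {a b : C} (ha : orderOf a = 2) (hb : orderOf b = 2) :
    a = b := by
  classical
  obtain ⟨g, hg⟩ := IsCyclic.exists_generator (α := C)
  have hog : orderOf g = Nat.card C := orderOf_eq_card_of_forall_mem_zpowers hg
  have key : ∀ x : C, orderOf x = 2 → x = g ^ (Nat.card C / 2) := by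
    intro x hx
    obtain ⟨i, rfl⟩ := (mem_powers_iff_mem_zpowers.2 (hg x))
    change orderOf (g ^ i) = 2 at hx
    have h1 : (g ^ i) ^ 2 = 1 := by rw [← hx, pow_orderOf_eq_one]
    rw [← pow_mul] at h1
    have h2 := orderOf_dvd_of_pow_eq_one h1
    rw [hog] at h2
    have h3 : ¬ Nat.card C ∣ i := by
      intro h
      have h4 : g ^ i = 1 := orderOf_dvd_iff_pow_eq_one.1 (by rw [hog]; exact h)
      rw [h4, orderOf_one] at hx
      omega
    have h2C : 2 ∣ Nat.card C := hx ▸ orderOf_dvd_natCard _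
    obtain ⟨n, hn⟩ := h2C
    have hpos : 0 < Nat.card C := Nat.card_pos
    rw [hn, Nat.mul_div_cancel_left _ two_pos]
    have h5 : n ∣ i := by
      rw [hn, mul_comm i] at h2
      exact Nat.dvd_of_mul_dvd_mul_left two_pos h2
    obtain ⟨j, rfl⟩ := h5
    have hjodd : j % 2 = 1 := by
      by_contra hj
      apply h3
      obtain ⟨l, hl⟩ : ∃ l, j = 2 * l := ⟨j / 2, by omega⟩
      rw [hn, hl]
      exact ⟨l, by ring⟩
    obtain ⟨l, hl⟩ : ∃ l, j = 2 * l + 1 := ⟨j / 2, by omega⟩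
    show g ^ (n * j) = g ^ n
    have h6 : g ^ (2 * n) = 1 := by rw [← hn, ← hog, pow_orderOf_eq_one]
    rw [hl, show n * (2 * l + 1) = 2 * n * l + n by ring, pow_add, pow_mul, h6, one_pow, one_mul]
  rw [key a ha, key b hb]

/-- In a group with a subgroup of index two, an element outside has even order. -/
theorem even_of_index {H : Type*} [Group H] [Finite H] {N : Subgroup H} (hN : N.index = 2) {β : H} (hβ : β ∉ N) :
    ∃ m, orderOf β = 2 * m := by
  by_contra hcon
  push Not at hcon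
  apply hβ
  have h2 : β ^ 2 ∈ N := Subgroup.sq_mem_of_index_two hN β
  obtain ⟨k, hk⟩ : ∃ k, orderOf β = 2 * k + 1 := ⟨orderOf β / 2, by have := hcon (orderOf β / 2); omega⟩
  have h3 : β = (β ^ 2) ^ (k + 1) := by
    rw [← pow_mul, show 2 * (k + 1) = (2 * k + 1) + 1 by ring, pow_succ, ← hk, pow_orderOf_eq_one, one_mul]
  rw [h3]
  exact N.pow_mem h2 _

/-- **The graph-field involution** -/
theorem exists_graph [CharP F 2] {f : ℕ} (hF : Fintype.card F = 2 ^ f) (hf : Odd f) : ∃ ψ : MulAut ↥(chevF4.group F),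
    ψ ^ 2 = 1 ∧ ∀ A : Subgroup (MulAut ↥(chevF4.group F)),
      (MulAut.conj : ↥(chevF4.group F) →* MulAut ↥(chevF4.group F)).range ≤ A →
      (∀ a ∈ A, ∃ y : ↥(chevF4.group F), orderOf y = orderOf a) → ψ ∉ A := by
  classical
  have hp2 : Fact (Nat.Prime 2) := ⟨Nat.prime_two⟩
  obtain ⟨α, hα⟩ := Cfsg.Agent.S1098.result (K := F) (hperf 2) (chevF4, [(3, 2), (2, 2), (1, 1), (0, 1)]) (by simp)
  have hv : ∀ (i : Fin 4) (t : F), α (xe hF4 (chevF4.simple i) t) = xe hF4 (chevF4.simple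
      ([(3, 2), (2, 2), (1, 1), (0, 1)].getD (i : ℕ) (0, 1)).1)
        (t ^ ([(3, 2), (2, 2), (1, 1), (0, 1)].getD (i : ℕ) (0, 1)).2) := fun i t =>
    eq_xe hF4 ((hα (xe hF4 (chevF4.simple i) t) i t i.2).1 (coe_coe_xe hF4 _ t))
  have hv' : ∀ (i : Fin 4) (t : F), α (xe hF4 (chevF4.neg (chevF4.simple i)) t) = xe hF4 (chevF4.neg (chevF4.simple
      ([(3, 2), (2, 2), (1, 1), (0, 1)].getD (i : ℕ) (0, 1)).1))
        (t ^ ([(3, 2), (2, 2), (1, 1), (0, 1)].getD (i : ℕ) (0, 1)).2) := fun i t =>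
    eq_xe hF4 ((hα (xe hF4 (chevF4.neg (chevF4.simple i)) t) i t i.2).2 (coe_coe_xe hF4 _ t))
  set ρ : MulAut ↥(chevF4.group F) := α with hρ
  have hcomp : ∀ i : Fin 4, ∃ j : Fin 4, ([(3, 2), (2, 2), (1, 1), (0, 1)].getD (i : ℕ) (0, 1)).1 = (j : ℕ) ∧
      ([(3, 2), (2, 2), (1, 1), (0, 1)].getD (j : ℕ) (0, 1)).1 = (i : ℕ) ∧
      ([(3, 2), (2, 2), (1, 1), (0, 1)].getD (i : ℕ) (0, 1)).2 *
        ([(3, 2), (2, 2), (1, 1), (0, 1)].getD (j : ℕ) (0, 1)).2 = 2 := by decide
  have h2 : ∀ (i : Fin 4) (t : F), (ρ ^ 2) (xe hF4 (chevF4.simple i) t) = xe hF4 (chevF4.simple i) (t ^ 2) := by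
    intro i t
    obtain ⟨j, e1, e2, e3⟩ := hcomp i
    have h5 := hv i t
    rw [e1] at h5
    have h6 := hv j (t ^ ([(3, 2), (2, 2), (1, 1), (0, 1)].getD (i : ℕ) (0, 1)).2)
    rw [e2, ← pow_mul, e3] at h6
    rw [pow_two]
    exact (congrArg α h5).trans h6
  have h2' : ∀ (i : Fin 4) (t : F), (ρ ^ 2) (xe hF4 (chevF4.neg (chevF4.simple i)) t) =
      xe hF4 (chevF4.neg (chevF4.simple i)) (t ^ 2) := by
    intro i t
    obtain ⟨j, e1, e2, e3⟩ := hcomp i
    have h5 := hv' i t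
    rw [e1] at h5
    have h6 := hv' j (t ^ ([(3, 2), (2, 2), (1, 1), (0, 1)].getD (i : ℕ) (0, 1)).2)
    rw [e2, ← pow_mul, e3] at h6
    rw [pow_two]
    exact (congrArg α h5).trans h6
  have hpow : ∀ (n : ℕ) (i : Fin 4) (t : F), ((ρ ^ 2) ^ n) (xe hF4 (chevF4.simple i) t) =
      xe hF4 (chevF4.simple i) (t ^ 2 ^ n) := by
    intro n i
    induction n with
    | zero => intro t; simp
    | succ n ih => intro t; rw [pow_succ (ρ ^ 2), MulAut.mul_apply, h2, ih, ← pow_mul, ← pow_succ']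
  have hpow' : ∀ (n : ℕ) (i : Fin 4) (t : F), ((ρ ^ 2) ^ n) (xe hF4 (chevF4.neg (chevF4.simple i)) t) =
      xe hF4 (chevF4.neg (chevF4.simple i)) (t ^ 2 ^ n) := by
    intro n i
    induction n with
    | zero => intro t; simp
    | succ n ih => intro t; rw [pow_succ (ρ ^ 2), MulAut.mul_apply, h2', ih, ← pow_mul, ← pow_succ']
  have hψ2 : (ρ ^ f) ^ 2 = 1 := by
    rw [← pow_mul, mul_comm, pow_mul]
    apply ext_values (hD := hF4)
    · intro i t
      rw [hpow f i t, ← hF, FiniteField.pow_card]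
      rfl
    · intro i t
      rw [hpow' f i t, ← hF, FiniteField.pow_card]
      rfl
  refine ⟨ρ ^ f, hψ2, fun A hA hord hmem => ?_⟩
  obtain ⟨m, hm⟩ := hf
  have h33 : (ρ ^ f) (xe hF4 33 1) = xe hF4 24 1 := by
    rw [hm, pow_succ', pow_mul, MulAut.mul_apply]
    have h5 : ((ρ ^ 2) ^ m) (xe hF4 33 (1 : F)) = xe hF4 33 1 := by
      have := hpow m 0 1
      rw [one_pow] at this
      exact this
    rw [h5]
    have h6 := hv 0 1
    have h7 : α (xe hF4 33 (1 : F)) = xe hF4 24 (1 ^ 2) := h6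
    rw [one_pow] at h7
    exact h7
  have h27 : (ρ ^ f) (xe hF4 27 1) = xe hF4 25 1 := by
    rw [hm, pow_succ', pow_mul, MulAut.mul_apply]
    have h5 : ((ρ ^ 2) ^ m) (xe hF4 27 (1 : F)) = xe hF4 27 1 := by
      have := hpow m 1 1
      rw [one_pow] at this
      exact this
    rw [h5]
    have h6 := hv 1 1
    have h7 : α (xe hF4 27 (1 : F)) = xe hF4 25 (1 ^ 2) := h6
    rw [one_pow] at h7
    exact h7
  set ψ := ρ ^ f with hψ
  have hsq : (MulAut.conj (uw [(33, (1 : F)), (27, 1)]) * ψ) ^ 2 =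
      MulAut.conj (uw ([(33, 1), (27, 1)] ++ [(24, 1), (25, 1)])) := by
    have e1 : ψ * ψ = 1 := by rw [← pow_two, hψ2]
    have e2 : ∀ x : ↥(chevF4.group F), ψ * MulAut.conj x = MulAut.conj (ψ x) * ψ := by
      intro x
      apply MulEquiv.ext
      intro g
      show ψ (MulAut.conj x g) = MulAut.conj (ψ x) (ψ g)
      rw [MulAut.conj_apply, MulAut.conj_apply, map_mul, map_mul, map_inv]
    have e3 : ψ (uw [(33, (1 : F)), (27, 1)]) = uw [(24, 1), (25, 1)] := by
      have e4 : ∀ (r r' : ℕ), (uw [(r, (1 : F)), (r', 1)]) = xe hF4 r 1 * xe hF4 r' 1 := by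
        intro r r'
        simp [uw]
      rw [e4, e4, map_mul, h33, h27]
    rw [pow_two, mul_assoc, ← mul_assoc ψ, e2, mul_assoc, e1, mul_one, ← map_mul, e3, uw_append]
  refine false_of_sq hord (A.mul_mem (hA ⟨_, rfl⟩) hmem) ?_ ?_ hsq
  · intro q hq
    simp at hq
    rcases hq with rfl | rfl | rfl | rfl <;> simp
  · simp only [Num.NN, List.map_append, List.sum_append, List.map_cons, List.map_nil, List.sum_cons, List.sum_nil,
      add_zero, pow_zero, one_smul]
    abel

/-- **The automorphisms of `F₄(q)`**, `q` a power of 2, 3, 7 or 11. -/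
theorem autOk_F4 (p : ℕ) [CharP F p] (hp : p = 2 ∨ p = 3 ∨ p = 7 ∨ p = 11) : H373.Recog.AutOk ↥(chevF4.group F) := by
  classical
  have hpp : p.Prime := by rcases hp with rfl | rfl | rfl | rfl <;> norm_num
  have hpf : Fact p.Prime := ⟨hpp⟩
  obtain ⟨f, -, hF⟩ := FiniteField.card F p
  set f' : ℕ := (f : ℕ) with hf'
  have hf0 : 0 < f' := f.2
  intro A hA hord α hα
  by_contra hαn
  have hαn' : α ∉ Inn ↥(chevF4.group F) := hαn
  -- the outer automorphism group
  have hfinM : Finite (MulAut ↥(chevF4.group F)) :=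
    Finite.of_injective (fun τ : MulAut ↥(chevF4.group F) => (τ : ↥(chevF4.group F) → ↥(chevF4.group F)))
      DFunLike.coe_injective
  have hfinO : Finite (Out ↥(chevF4.group F)) := Finite.of_surjective _ (QuotientGroup.mk_surjective (s := Inn _))
  have hcyc : IsCyclic (Out ↥(chevF4.group F)) := by
    obtain ⟨β, h⟩ := Cfsg.Agent.H523.Chev.cycOut_F4 (F := F)
    refine ⟨⟨(QuotientGroup.mk β : Out ↥(chevF4.group F)), fun x => ?_⟩⟩
    obtain ⟨γ, rfl⟩ := QuotientGroup.mk_surjective x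
    obtain ⟨g, k, rfl⟩ := h γ
    refine ⟨k, ?_⟩
    have h1 : (QuotientGroup.mk (MulAut.conj g) : Out ↥(chevF4.group F)) = 1 :=
      (QuotientGroup.eq_one_iff _).mpr ⟨g, rfl⟩
    change (QuotientGroup.mk β : Out ↥(chevF4.group F)) ^ k = _
    rw [QuotientGroup.mk_mul, h1, one_mul, QuotientGroup.mk_zpow]
  have hout := Cfsg.Agent.S2122.result (F := F) p f' hF
  set π := QuotientGroup.mk' (Inn ↥(chevF4.group F)) with hπ
  have hgal := gal_inj (F := F) p hp
  set g := π.comp (fldHom F) with hg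
  have hcgal : Nat.card g.range = f' := by
    rw [← Cfsg.Agent.Lib.FieldAutCard.card_ringAut hf0 hF]
    exact (Nat.card_congr (MonoidHom.ofInjective hgal).toEquiv).symm
  -- reduction to prime order
  have ha1 : orderOf (π α) ≠ 1 := by
    intro h
    rw [orderOf_eq_one_iff] at h
    exact hαn' ((QuotientGroup.eq_one_iff _).1 h)
  obtain ⟨r, hr, hd⟩ := Nat.exists_prime_and_dvd ha1
  obtain ⟨j, hj⟩ := exists_pow_orderOf hd (orderOf_pos (π α)).ne'
  have hα' : α ^ j ∈ A := A.pow_mem hα j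
  have hoa : orderOf (π (α ^ j)) = r := by rw [map_pow, hj]
  set γ := α ^ j with hγ
  -- elements of `A` modulo inner automorphisms
  have hmemA : ∀ δ : MulAut ↥(chevF4.group F), π δ = π γ → δ ∈ A := by
    intro δ h1
    have h2 : γ⁻¹ * δ ∈ Inn ↥(chevF4.group F) := by
      have h4 : π (γ⁻¹ * δ) = 1 := by rw [map_mul, map_inv, h1, inv_mul_cancel]
      exact (QuotientGroup.eq_one_iff _).1 h4
    have h5 : δ = γ * (γ⁻¹ * δ) := by group
    rw [h5]
    exact A.mul_mem hα' (hA h2)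
  -- field type
  have hfield : π γ ∉ g.range := by
    rintro ⟨τ, hτ⟩
    have hoτ : orderOf τ = r := by rw [← orderOf_injective g hgal, hτ, hoa]
    exact no_fld p hp hA hord hr hoτ (hmemA _ hτ)
  by_cases hp2 : p = 2
  · subst hp2
    have hidx : g.range.index = 2 := by
      have h1 := Subgroup.card_mul_index g.range
      have h3 : Nat.gcd 2 2 = 2 := by norm_num
      rw [hcgal, hout, h3, mul_comm 2] at h1
      exact Nat.eq_of_mul_eq_mul_left hf0 h1
    have hr2 : r = 2 := by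
      by_contra hne
      have hodd : Odd r := hr.odd_of_ne_two hne
      obtain ⟨m, hm⟩ := even_of_index hidx hfield
      rw [hoa] at hm
      rcases hodd with ⟨t, ht⟩
      omega
    subst hr2
    -- `f` is odd
    have hfodd : Odd f' := by
      rw [← Nat.not_even_iff_odd]
      intro hev
      apply hfield
      have h2 : 2 ∣ Nat.card g.range := by rw [hcgal]; exact hev.two_dvd
      obtain ⟨b, hb⟩ := exists_prime_orderOf_dvd_card' 2 h2
      have h4 : π γ = (b : Out ↥(chevF4.group F)) := eq_of_cyclic hoa (by rw [Subgroup.orderOf_coe, hb])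
      rw [h4]
      exact b.2
    obtain ⟨ψ, hψ2, hψ⟩ := exists_graph hF hfodd
    have hψn : ψ ∉ Inn ↥(chevF4.group F) := by
      refine hψ _ le_rfl ?_
      rintro _ ⟨y, rfl⟩
      exact ⟨y, (orderOf_conj y).symm⟩
    have hπψ : orderOf (π ψ) = 2 := by
      apply orderOf_eq_prime
      · rw [← map_pow, hψ2, map_one]
      · intro h
        exact hψn ((QuotientGroup.eq_one_iff _).1 h)
    exact hψ A hA hord (hmemA ψ (eq_of_cyclic hπψ hoa))
  · apply hfield
    have h3 : Nat.gcd 2 p = 1 := (Nat.coprime_primes Nat.prime_two hpp).2 (Ne.symm hp2)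
    rw [h3, one_mul] at hout
    have h1 : g.range = ⊤ := by
      rw [← Subgroup.card_eq_iff_eq_top, hcgal, hout]
    rw [h1]
    trivial

end Cfsg.Agent.H351.F4Out
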