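import Mathlib
import Cfsg.Agent.Solvable.FixedPointFree
import Cfsg.Agent.Solvable.FpfPGroup
import Cfsg.Agent.S0016

set_option autoImplicit false
set_option linter.style.haveILetI false
set_option linter.deprecated false

/-!
# Half-transitive linear `p`-groups: basic facts
-/

namespace Cfsg.Agent.H351.HT

variable {q : ℕ} {V : Type*} [AddCommGroup V] [Module (ZMod q) V]
  {G : Type*} [Group G] (ρ : G →* (V ≃ₗ[ZMod q] V))

/-- the stabiliser of a vector -/
def stab (v : V) : Subgroup G where
  carrier := {g | ρ g v = v}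
  one_mem' := by simp
  mul_mem' := by
    intro a b ha hb
    simp only [Set.mem_ofPred_eq] at *
    rw [map_mul, LinearEquiv.mul_apply, hb, ha]
  inv_mem' := by
    intro a ha
    simp only [Set.mem_ofPred_eq] at *
    have h : ρ a⁻¹ (ρ a v) = v := by rw [← LinearEquiv.mul_apply, ← map_mul]; simp
    rwa [ha] at h

theorem mem_stab {v : V} {g : G} : g ∈ stab ρ v ↔ ρ g v = v := Iff.rfl

theorem inv_apply_self (g : G) (v : V) : ρ g⁻¹ (ρ g v) = v := by
  rw [← LinearEquiv.mul_apply, ← map_mul]; simp

theorem self_apply_inv (g : G) (v : V) : ρ g (ρ g⁻¹ v) = v := by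
  rw [← LinearEquiv.mul_apply, ← map_mul]; simp

theorem card_orb_mul [Finite G] (v : V) :
    Nat.card {u : V | ∃ g : G, ρ g v = u} * Nat.card (stab ρ v) = Nat.card G := by
  letI : MulAction G V := MulAction.compHom V ρ
  have h1 := MulAction.index_stabilizer G v
  have h2 : MulAction.stabilizer G v = stab ρ v := by
    ext g; rfl
  have h3 : (MulAction.orbit G v) = {u : V | ∃ g : G, ρ g v = u} := by
    ext u; rfl
  rw [h2, h3] at h1
  have h4 := Subgroup.card_mul_index (stab ρ v)
  rw [h1, mul_comm] at h4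
  exact h4

theorem stab_card_eq [Finite G] [Finite V]
    (hhalf : ∀ v w : V, v ≠ 0 → w ≠ 0 →
      Nat.card {u : V | ∃ g : G, ρ g v = u} = Nat.card {u : V | ∃ g : G, ρ g w = u})
    (v w : V) (hv : v ≠ 0) (hw : w ≠ 0) : Nat.card (stab ρ v) = Nat.card (stab ρ w) := by
  have h1 := card_orb_mul ρ v
  have h2 := card_orb_mul ρ w
  rw [hhalf v w hv hw, ← h2] at h1
  have h3 : 0 < Nat.card {u : V | ∃ g : G, ρ g w = u} := by
    haveI : Nonempty {u : V | ∃ g : G, ρ g w = u} := ⟨⟨w, 1, by simp⟩⟩
    exact Nat.card_pos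
  exact Nat.eq_of_mul_eq_mul_left h3 h1

/-- stabilisers of half-transitive groups that are comparable are equal -/
theorem stab_eq_of_le [Finite G]
    (hc : ∀ v w : V, v ≠ 0 → w ≠ 0 → Nat.card (stab ρ v) = Nat.card (stab ρ w))
    {v w : V} (hv : v ≠ 0) (hw : w ≠ 0) (hle : stab ρ v ≤ stab ρ w) : stab ρ v = stab ρ w :=
  Subgroup.eq_of_le_of_card_ge hle (hc v w hv hw).ge

theorem semireg_of_one [Finite G]
    (hc : ∀ v w : V, v ≠ 0 → w ≠ 0 → Nat.card (stab ρ v) = Nat.card (stab ρ w))
    {v : V} (hv : v ≠ 0) (h : stab ρ v = ⊥) : ∀ w : V, w ≠ 0 → ∀ g : G, ρ g w = w → g = 1 := by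
  intro w hw g hg
  have h1 := hc w v hw hv
  rw [h, Subgroup.card_bot] at h1
  have h2 := Subgroup.eq_bot_of_card_eq _ h1
  have h3 : g ∈ stab ρ w := hg
  rw [h2] at h3
  exact h3

/-- in a finite cyclic group, an element whose order divides that of `z` is a power of `z` -/
theorem mem_zpowers_of_dvd {A : Type*} [Group A] [Finite A] [IsCyclic A] {x z : A}
    (h : orderOf x ∣ orderOf z) : x ∈ Subgroup.zpowers z := by
  classical
  have := Fintype.ofFinite A
  have h1 := IsCyclic.card_pow_eq_one_le (α := A) (n := orderOf z) (orderOf_pos z)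
  have h2 : (Finset.univ.filter fun a : A => a ∈ Subgroup.zpowers z) ⊆
      (Finset.univ.filter fun a : A => a ^ orderOf z = 1) := by
    intro a ha
    simp only [Finset.mem_filter, Finset.mem_univ, true_and] at ha ⊢
    obtain ⟨k, rfl⟩ := Subgroup.mem_zpowers_iff.1 ha
    rw [← zpow_natCast, ← zpow_mul, mul_comm, zpow_mul, zpow_natCast, pow_orderOf_eq_one, one_zpow]
  have h3 : (Finset.univ.filter fun a : A => a ∈ Subgroup.zpowers z).card = orderOf z := by
    rw [← Nat.card_zpowers, Nat.card_eq_fintype_card, Fintype.card_subtype]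
  have h4 := Finset.eq_of_subset_of_card_le h2 (by rw [h3]; exact h1)
  have h5 : x ∈ (Finset.univ.filter fun a : A => a ^ orderOf z = 1) := by
    simp only [Finset.mem_filter, Finset.mem_univ, true_and]
    exact orderOf_dvd_iff_pow_eq_one.1 h
  rw [← h4] at h5
  simpa using h5

/-- A semiregular linear `p`-group is cyclic or generalised quaternion. -/
theorem cyclic_or_quat_of_semireg [Finite G] [Nontrivial V] (p : ℕ) [Fact p.Prime] (hG : IsPGroup p G)
    (h : ∀ v : V, v ≠ 0 → ∀ g : G, ρ g v = v → g = 1) :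
    IsCyclic G ∨ ∃ n : ℕ, Nonempty (G ≃* QuaternionGroup n) := by
  have hp : p.Prime := Fact.out
  have key : ∀ x z : G, x * z = z * x → orderOf x = p → orderOf z = p →
      Subgroup.zpowers x = Subgroup.zpowers z := by
    intro x z hxz hx hz
    let A := Subgroup.closure {x, z}
    have hcomm : ∀ a ∈ ({x, z} : Set G), ∀ b ∈ ({x, z} : Set G), a * b = b * a := by
      rintro a (rfl | rfl) b (rfl | rfl)
      · rfl
      · exact hxz
      · exact hxz.symm
      · rfl
    letI : CommGroup A := Subgroup.closureCommGroupOfComm hcomm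
    have hcyc : IsCyclic A := by
      refine Cfsg.Agent.Solvable.FixedPointFree.isCyclic_of_comm (A := A) (M := V)
        { toFun := fun a => ((ρ (a : G)).toLinearMap.toAddMonoidHom : AddMonoid.End V)
          map_one' := by ext v; simp; rfl
          map_mul' := by
            intro a b; ext v
            simp only [Subgroup.coe_mul, map_mul]
            rfl } ?_
      intro a ha v hv
      by_contra hv0
      exact ha (Subtype.ext (h v hv0 a hv))
    have hxA : x ∈ A := Subgroup.subset_closure (by simp)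
    have hzA : z ∈ A := Subgroup.subset_closure (by simp)
    have h1 : Subgroup.zpowers (⟨x, hxA⟩ : A) = Subgroup.zpowers (⟨z, hzA⟩ : A) := by
      apply le_antisymm <;> rw [Subgroup.zpowers_le] <;> apply mem_zpowers_of_dvd <;>
        rw [Subgroup.orderOf_mk, Subgroup.orderOf_mk, hx, hz]
    have h2 := congrArg (Subgroup.map A.subtype) h1
    rw [MonoidHom.map_zpowers, MonoidHom.map_zpowers] at h2
    exact h2
  have huniq := Cfsg.Agent.Solvable.FpfPGroup.eq_of_card_eq hp hG key
  rcases Cfsg.Agent.S0016.result p hG huniq with h | ⟨-, n, h⟩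
  · exact Or.inl h
  · exact Or.inr ⟨_, h⟩

end Cfsg.Agent.H351.HT
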