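import Mathlib

set_option autoImplicit false

/-!
# Elementary number theory: prime powers next to powers of two
-/

namespace Cfsg.Agent.H351.NT

theorem geom_odd {q r : ℕ} (hq : Odd q) (hr : Odd r) : Odd (∑ i ∈ Finset.range r, q ^ i) := by
  rw [Finset.odd_sum_iff_odd_card_odd]
  rw [Finset.filter_true_of_mem (fun i _ => hq.pow), Finset.card_range]
  exact hr

theorem eq_one_of_odd_of_dvd_two_pow {a k : ℕ} (ha : Odd a) (h : a ∣ 2 ^ k) : a = 1 := by
  have h1 : Nat.Coprime a (2 ^ k) := (Nat.Coprime.pow_right k (Nat.coprime_two_right.2 ha))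
  exact Nat.Coprime.eq_one_of_dvd h1 h

/-- `q ^ r = 2 ^ k + 1` with `q` an odd number. -/
theorem pow_eq_two_pow_add_one {q r k : ℕ} (hq : Odd q) (hq1 : 1 < q) (hr : r ≠ 0)
    (h : q ^ r = 2 ^ k + 1) : r = 1 ∨ (q = 3 ∧ r = 2) := by
  rcases Nat.even_or_odd r with ⟨s, hs⟩ | hodd
  · right
    have hs0 : s ≠ 0 := by omega
    have h1 : (q ^ s - 1) * (q ^ s + 1) = 2 ^ k := by
      have h2 : q ^ r = q ^ s * q ^ s := by rw [hs, pow_add]
      have h3 : 1 ≤ q ^ s := Nat.one_le_pow _ _ (by omega)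
      obtain ⟨t, ht⟩ := Nat.exists_eq_add_of_le h3
      rw [h2, ht] at h
      rw [ht]
      have : 1 + t - 1 = t := by omega
      rw [this]
      nlinarith
    obtain ⟨a, -, ha⟩ := (Nat.dvd_prime_pow Nat.prime_two).1 (Dvd.intro _ h1)
    obtain ⟨b, -, hb⟩ := (Nat.dvd_prime_pow Nat.prime_two).1 (Dvd.intro_left _ h1)
    have hqs : 1 < q ^ s := Nat.one_lt_pow hs0 hq1
    have hab : 2 ^ b = 2 ^ a + 2 := by omega
    have ha1 : a = 1 := by
      rcases a with _ | _ | a
      · exfalso
        rw [pow_zero] at hab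
        have : Odd (2 ^ b) := by rw [hab]; decide
        rcases b with _ | b
        · simp at hab
        · rw [pow_succ, mul_comm] at this
          exact (Nat.not_odd_iff_even.2 ⟨2 ^ b, by ring⟩) this
      · rfl
      · exfalso
        rcases b with _ | _ | b
        · simp at hab
        · simp at hab
        · have e1 : 2 ^ (b + 1 + 1) = 4 * 2 ^ b := by ring
          have e2 : 2 ^ (a + 1 + 1) = 4 * 2 ^ a := by ring
          omega
    subst ha1
    have hqs3 : q ^ s = 3 := by omega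
    have hs1 : s = 1 := by
      by_contra hne
      have hs2 : 2 ≤ s := by omega
      have h4 : q ^ 2 ≤ q ^ s := Nat.pow_le_pow_right (by omega) hs2
      have h5 : 3 ≤ q := by
        rcases hq with ⟨t, ht⟩; omega
      nlinarith
    rw [hs1, pow_one] at hqs3
    exact ⟨hqs3, by omega⟩
  · left
    have h1 : ∑ i ∈ Finset.range r, q ^ i ∣ 2 ^ k := by
      refine ⟨q - 1, ?_⟩
      have h2 := Nat.geomSum_eq (m := q) (by omega) r
      have h3 : (q - 1) ∣ q ^ r - 1 := by
        simpa using Nat.sub_dvd_pow_sub_pow q 1 r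
      rw [h2, Nat.div_mul_cancel h3, h]
      rfl
    have h4 := eq_one_of_odd_of_dvd_two_pow (geom_odd hq hodd) h1
    by_contra hne
    have h5 : 2 ≤ r := by
      rcases hodd with ⟨t, ht⟩; omega
    obtain ⟨t, rfl⟩ := Nat.exists_eq_add_of_le h5
    rw [show 2 + t = t + 1 + 1 by ring, Finset.sum_range_succ'] at h4
    have h6 : 0 < ∑ i ∈ Finset.range (t + 1), q ^ (i + 1) := by
      apply Finset.sum_pos
      · intro i _; positivity
      · exact ⟨0, by simp⟩
    rw [pow_zero] at h4
    omega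

/-- `q ^ r + 1 = 2 ^ l` with `q > 1` forces `r = 1`. -/
theorem pow_add_one_eq_two_pow {q r l : ℕ} (hq : Odd q) (hq1 : 1 < q) (hr : r ≠ 0)
    (h : q ^ r + 1 = 2 ^ l) : r = 1 := by
  have hqr : 1 < q ^ r := Nat.one_lt_pow hr hq1
  have hl : 2 ≤ l := by
    rcases l with _ | _ | l
    · simp at h; omega
    · simp at h; omega
    · omega
  rcases Nat.even_or_odd r with ⟨s, hs⟩ | hodd
  · exfalso
    have h1 : q ^ r = q ^ s * q ^ s := by rw [hs, pow_add]
    obtain ⟨t, ht⟩ := hq.pow (n := s)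
    have h2 : 4 ∣ 2 ^ l := by
      obtain ⟨m, rfl⟩ := Nat.exists_eq_add_of_le hl
      exact ⟨2 ^ m, by rw [pow_add]; norm_num⟩
    rw [← h, h1, ht] at h2
    have : (2 * t + 1) * (2 * t + 1) + 1 = 4 * (t * t + t) + 2 := by ring
    omega
  · by_contra hne
    have hdvd : q + 1 ∣ q ^ r + 1 := by
      simpa using Odd.nat_add_dvd_pow_add_pow q 1 hodd
    obtain ⟨c, hc⟩ := hdvd
    have hcdvd : c ∣ 2 ^ l := ⟨q + 1, by rw [← h, hc]; ring⟩
    have hc2 : Odd c := by
      -- mod `q + 1`, the cofactor is congruent to `r`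
      by_contra hcon
      rw [Nat.not_odd_iff_even] at hcon
      have hodd' : ∃ t, q ^ r = (q + 1) * (q * t) + q := by
        obtain ⟨s, hs⟩ := hodd
        subst hs
        have h3 : (q + 1) ∣ q ^ (2 * s) - 1 := by
          have h4 : q ^ 2 - 1 ∣ (q ^ 2) ^ s - 1 := by simpa using Nat.sub_dvd_pow_sub_pow (q ^ 2) 1 s
          rw [← pow_mul] at h4
          refine dvd_trans ?_ h4
          refine ⟨q - 1, ?_⟩
          obtain ⟨u, hu⟩ := Nat.exists_eq_add_of_le hq1.le
          subst hu
          have : (1 + u) ^ 2 = u * u + 2 * u + 1 := by ring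
          rw [this]
          have e : 1 + u - 1 = u := by omega
          rw [e, Nat.add_sub_cancel]
          ring
        obtain ⟨t, ht⟩ := h3
        refine ⟨t, ?_⟩
        have h5 : q ^ (2 * s) = (q + 1) * t + 1 := by
          have : 1 ≤ q ^ (2 * s) := Nat.one_le_pow _ _ (by omega)
          omega
        rw [pow_succ, h5]; ring
      obtain ⟨t, ht⟩ := hodd'
      have h6 : (q + 1) * c = (q + 1) * (q * t + 1) := by
        rw [← hc, ht]; ring
      have h7 : c = q * t + 1 := Nat.eq_of_mul_eq_mul_left (by omega) h6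
      -- `t` is even: `t = (q ^ (r-1) - 1)/(q + 1)`
      have h8 : Odd t := by
        rw [h7] at hcon
        by_contra h9
        rw [Nat.not_odd_iff_even] at h9
        have := (Even.add_odd (h9.mul_left q) odd_one)
        exact (Nat.not_odd_iff_even.2 hcon) this
      obtain ⟨s, hs⟩ := hodd
      have hs0 : s ≠ 0 := by rintro rfl; apply hne; omega
      -- `q^(2s) = (q+1) t + 1`, and `q^2 ≡ 1 mod (q+1)(q-1)`
      have h10 : q ^ (2 * s) = (q + 1) * t + 1 := by
        have h11 : q * q ^ (2 * s) = q * ((q + 1) * t + 1) := by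
          rw [← pow_succ', ← hs, ht]; ring
        exact Nat.eq_of_mul_eq_mul_left (by omega) h11
      have h12 : (q + 1) * (q - 1) ∣ q ^ (2 * s) - 1 := by
        have h4 : q ^ 2 - 1 ∣ (q ^ 2) ^ s - 1 := by simpa using Nat.sub_dvd_pow_sub_pow (q ^ 2) 1 s
        rw [← pow_mul] at h4
        refine dvd_trans ?_ h4
        obtain ⟨u, hu⟩ := Nat.exists_eq_add_of_le hq1.le
        subst hu
        have : (1 + u) ^ 2 = u * u + 2 * u + 1 := by ring
        rw [this]
        have e : 1 + u - 1 = u := by omega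
        rw [e, Nat.add_sub_cancel]
        exact ⟨1, by ring⟩
      rw [h10, Nat.add_sub_cancel] at h12
      have h13 : q - 1 ∣ t := Nat.dvd_of_mul_dvd_mul_left (by omega) h12
      have h14 : 2 ∣ q - 1 := by rcases hq with ⟨u, hu⟩; omega
      have h15 := h14.trans h13
      rcases h8 with ⟨u, hu⟩
      omega
    have hc1 := eq_one_of_odd_of_dvd_two_pow hc2 hcdvd
    rw [hc1, mul_one] at hc
    have h16 : q ^ r = q ^ 1 := by rw [pow_one]; omega
    exact hne (Nat.pow_right_injective hq1 h16)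

/-- `2 ^ n - 1 = p ^ k` forces `k ≤ 1`. -/
theorem two_pow_sub_one {n p k : ℕ} (hp : Odd p) (hp1 : 1 < p) (hk : k ≠ 0)
    (h : p ^ k + 1 = 2 ^ n) : k = 1 := pow_add_one_eq_two_pow hp hp1 hk h

end Cfsg.Agent.H351.NT
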