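import Cfsg.Agent.H351.HalfTransBasic

set_option autoImplicit false
set_option linter.style.haveILetI false

/-!
# Half-transitive linear `p`-groups: the characteristic and the reducible case
-/

namespace Cfsg.Agent.H351.HT

variable {q : ℕ} {V : Type*} [AddCommGroup V] [Module (ZMod q) V]
  {G : Type*} [Group G] (ρ : G →* (V ≃ₗ[ZMod q] V))

/-- no invariant subspaces -/
def Irred : Prop := ∀ U : Submodule (ZMod q) V, (∀ g : G, ∀ u ∈ U, ρ g u ∈ U) → U = ⊥ ∨ U = ⊤

/-- In characteristic `p` a half-transitive `p`-group is trivial, so semiregular. -/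
theorem semireg_of_char [hq : Fact q.Prime] [Finite V] [Nontrivial V] [Finite G] (hG : IsPGroup q G)
    (hρ : Function.Injective ρ)
    (hc : ∀ v w : V, v ≠ 0 → w ≠ 0 → Nat.card (stab ρ v) = Nat.card (stab ρ w)) :
    ∀ w : V, w ≠ 0 → ∀ g : G, ρ g w = w → g = 1 := by
  letI : MulAction G V := MulAction.compHom V ρ
  have hsmul : ∀ (g : G) (v : V), g • v = ρ g v := fun g v => rfl
  have hdvd : q ∣ Nat.card V := by
    obtain ⟨v, hv⟩ := exists_ne (0 : V)
    have h1 : addOrderOf v = q := by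
      apply addOrderOf_eq_prime _ hv
      have : (q : ZMod q) • v = 0 := by rw [ZMod.natCast_self, zero_smul]
      rw [← this, Nat.cast_smul_eq_nsmul]
    rw [← h1]
    exact addOrderOf_dvd_natCard v
  obtain ⟨v, hv, hv0⟩ := hG.exists_fixed_point_of_prime_dvd_card_of_fixed_point V hdvd
    (a := 0) (by intro g; rw [hsmul, map_zero])
  have hv0' : v ≠ 0 := fun h => hv0 h.symm
  have htop : stab ρ v = ⊤ := by
    rw [eq_top_iff]; intro g _; exact hv g
  have hall : ∀ w : V, ∀ g : G, ρ g w = w := by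
    intro w g
    by_cases hw : w = 0
    · rw [hw, map_zero]
    · have h1 := hc w v hw hv0'
      rw [htop, Subgroup.card_top] at h1
      have h2 := Subgroup.eq_top_of_card_eq _ h1
      have : g ∈ stab ρ w := by rw [h2]; trivial
      exact this
  intro w _ g _
  apply hρ
  rw [map_one]
  ext u
  exact hall u g

theorem exists_compl [hq : Fact q.Prime] [Finite G]
    (hqG : ¬ q ∣ Nat.card G) (U : Submodule (ZMod q) V) (hU : ∀ g : G, ∀ u ∈ U, ρ g u ∈ U) :
    ∃ W : Submodule (ZMod q) V, IsCompl U W ∧ ∀ g : G, ∀ w ∈ W, ρ g w ∈ W := by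
  classical
  have := Fintype.ofFinite G
  obtain ⟨W₀, hW₀⟩ := U.exists_isCompl
  let π : V →ₗ[ZMod q] V := U.subtype ∘ₗ (U.projectionOnto W₀ hW₀)
  have hπU : ∀ v, π v ∈ U := fun v => (U.projectionOnto W₀ hW₀ v).2
  have hπu : ∀ u ∈ U, π u = u := by
    intro u hu
    have := Submodule.projectionOnto_apply_left hW₀ (⟨u, hu⟩ : U)
    show ((U.projectionOnto W₀ hW₀ u : U) : V) = u
    rw [show u = ((⟨u, hu⟩ : U) : V) from rfl, this]
  let P : V →ₗ[ZMod q] V := ∑ a : G, (ρ a).toLinearMap ∘ₗ π ∘ₗ (ρ a⁻¹).toLinearMap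
  have hP : ∀ v, P v = ∑ a : G, ρ a (π (ρ a⁻¹ v)) := by
    intro v
    simp only [P, LinearMap.sum_apply, LinearMap.comp_apply, LinearEquiv.coe_coe]
  have hPU : ∀ v, P v ∈ U := by
    intro v
    rw [hP]
    exact Submodule.sum_mem _ fun a _ => hU a _ (hπU _)
  have hPu : ∀ u ∈ U, P u = (Nat.card G : ZMod q) • u := by
    intro u hu
    rw [hP]
    have h1 : ∀ a : G, ρ a (π (ρ a⁻¹ u)) = u := by
      intro a
      rw [hπu _ (hU _ _ hu), self_apply_inv]
    rw [Finset.sum_congr rfl fun a _ => h1 a, Finset.sum_const, Finset.card_univ,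
      Nat.card_eq_fintype_card, Nat.cast_smul_eq_nsmul]
  have hPρ : ∀ (b : G) (v : V), P (ρ b v) = ρ b (P v) := by
    intro b v
    rw [hP, hP, map_sum]
    refine Fintype.sum_equiv (Equiv.mulLeft b⁻¹) _ _ ?_
    intro a
    simp only [Equiv.coe_mulLeft, ← LinearEquiv.mul_apply, ← map_mul, mul_inv_rev, inv_inv]
    rw [mul_inv_cancel_left]
  have hunit : (Nat.card G : ZMod q) ≠ 0 := by
    rw [Ne, ZMod.natCast_eq_zero_iff]; exact hqG
  refine ⟨LinearMap.ker P, ?_, ?_⟩
  · constructor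
    · rw [Submodule.disjoint_def]
      intro u hu hk
      rw [LinearMap.mem_ker, hPu u hu] at hk
      exact (smul_eq_zero.1 hk).resolve_left hunit
    · rw [codisjoint_iff, eq_top_iff]
      intro v _
      rw [Submodule.mem_sup]
      refine ⟨(Nat.card G : ZMod q)⁻¹ • P v, U.smul_mem _ (hPU v), v - (Nat.card G : ZMod q)⁻¹ • P v, ?_, by abel⟩
      rw [LinearMap.mem_ker, map_sub, map_smul, hPu _ (hPU v), smul_smul, inv_mul_cancel₀ hunit,
        one_smul, sub_self]
  · intro g w hw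
    rw [LinearMap.mem_ker] at hw ⊢
    rw [hPρ, hw, map_zero]

/-- A half-transitive group that is reducible is semiregular. -/
theorem semireg_of_reducible [hq : Fact q.Prime] [Finite V] [Finite G] (hqG : ¬ q ∣ Nat.card G)
    (hρ : Function.Injective ρ)
    (hc : ∀ v w : V, v ≠ 0 → w ≠ 0 → Nat.card (stab ρ v) = Nat.card (stab ρ w)) (hred : ¬ Irred ρ) :
    ∀ w : V, w ≠ 0 → ∀ g : G, ρ g w = w → g = 1 := by
  unfold Irred at hred
  push Not at hred
  obtain ⟨U, hU, hU1, hU2⟩ := hred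
  obtain ⟨W, hUW, hW⟩ := exists_compl ρ hqG U hU
  have hW1 : W ≠ ⊥ := by
    rintro rfl
    apply hU2
    have := hUW.sup_eq_top
    rwa [sup_bot_eq] at this
  have hsum : ∀ u ∈ U, ∀ w ∈ W, stab ρ (u + w) ≤ stab ρ u ⊓ stab ρ w := by
    intro u hu w hw g hg
    rw [mem_stab, map_add] at hg
    have h1 : ρ g u - u = w - ρ g w := by
      rw [sub_eq_sub_iff_add_eq_add, hg, add_comm w u]
    have h2 : ρ g u - u ∈ U := U.sub_mem (hU g u hu) hu
    have h3 : ρ g u - u ∈ W := by rw [h1]; exact W.sub_mem hw (hW g w hw)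
    have h4 := Submodule.disjoint_def.1 hUW.disjoint _ h2 h3
    refine ⟨sub_eq_zero.1 h4, ?_⟩
    rw [h4] at h1
    exact (sub_eq_zero.1 h1.symm).symm
  obtain ⟨u₀, hu₀, hu₀'⟩ := U.exists_mem_ne_zero_of_ne_bot hU1
  obtain ⟨w₀, hw₀, hw₀'⟩ := W.exists_mem_ne_zero_of_ne_bot hW1
  have hne : ∀ u ∈ U, ∀ w ∈ W, u ≠ 0 → u + w ≠ 0 := by
    intro u hu w hw hu0 h
    apply hu0
    apply Submodule.disjoint_def.1 hUW.disjoint _ hu
    rw [eq_neg_of_add_eq_zero_left h]
    exact W.neg_mem hw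
  have heq : ∀ u ∈ U, ∀ w ∈ W, u ≠ 0 → w ≠ 0 → stab ρ u = stab ρ w := by
    intro u hu w hw hu0 hw0
    have h1 := hne u hu w hw hu0
    have h2 := stab_eq_of_le ρ hc h1 hu0 ((hsum u hu w hw).trans inf_le_left)
    have h3 := stab_eq_of_le ρ hc h1 hw0 ((hsum u hu w hw).trans inf_le_right)
    rw [← h2, ← h3]
  apply semireg_of_one ρ hc hu₀'
  rw [eq_bot_iff]
  intro g hg
  rw [Subgroup.mem_bot]
  apply hρ
  rw [map_one]
  ext v
  show ρ g v = v
  have hv : v ∈ U ⊔ W := by rw [hUW.sup_eq_top]; trivial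
  obtain ⟨u, hu, w, hw, rfl⟩ := Submodule.mem_sup.1 hv
  have hgw : ∀ w ∈ W, w ≠ 0 → ρ g w = w := by
    intro w hw hw0
    have : g ∈ stab ρ w := by rw [← heq u₀ hu₀ w hw hu₀' hw0]; exact hg
    exact this
  have hgu : ∀ u ∈ U, u ≠ 0 → ρ g u = u := by
    intro u hu hu0
    have : g ∈ stab ρ u := by rw [heq u hu w₀ hw₀ hu0 hw₀']; exact hgw w₀ hw₀ hw₀'
    exact this
  rw [map_add]
  congr 1
  · by_cases h : u = 0
    · rw [h, map_zero]
    · exact hgu u hu h
  · by_cases h : w = 0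
    · rw [h, map_zero]
    · exact hgw w hw h

/-- fixed vectors of a normal subgroup are trivial or everything -/
theorem fix_central (hirr : Irred ρ) (hρ : Function.Injective ρ) {z : G} (hz : ∀ g : G, g * z = z * g)
    (hz1 : z ≠ 1) {v : V} (hv : ρ z v = v) : v = 0 := by
  let U : Submodule (ZMod q) V := LinearMap.ker ((ρ z).toLinearMap - LinearMap.id)
  have hmem : ∀ u : V, u ∈ U ↔ ρ z u = u := by
    intro u
    simp only [U, LinearMap.mem_ker, LinearMap.sub_apply, LinearEquiv.coe_coe, LinearMap.id_apply,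
      sub_eq_zero]
  have hU : ∀ g : G, ∀ u ∈ U, ρ g u ∈ U := by
    intro g u hu
    rw [hmem] at hu ⊢
    rw [← LinearEquiv.mul_apply, ← map_mul, ← hz g, map_mul, LinearEquiv.mul_apply, hu]
  rcases hirr U hU with h | h
  · have : v ∈ U := (hmem v).2 hv
    rw [h] at this
    exact (Submodule.mem_bot _).1 this
  · exfalso
    apply hz1
    apply hρ
    rw [map_one]
    ext u
    have : u ∈ U := by rw [h]; trivial
    exact (hmem u).1 this

end Cfsg.Agent.H351.HT
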