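import Cfsg.Agent.H351.HalfTransMain

set_option autoImplicit false
set_option linter.style.haveILetI false

/-!
# Imprimitivity of irreducible linear `p`-groups with a noncyclic normal abelian subgroup
-/

namespace Cfsg.Agent.H351.HT

variable {q : ℕ} {V : Type*} [AddCommGroup V] [Module (ZMod q) V]
  {G : Type*} [Group G] {ρ : G →* (V ≃ₗ[ZMod q] V)} {p : ℕ} {z b : G}

/-- A finite `p`-group all of whose normal abelian subgroups are cyclic. -/
theorem exists_normal_noncyclic [Finite G] [Fact p.Prime] (hG : IsPGroup p G)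
    (hnc : ¬ IsCyclic G) (hnq : ∀ n : ℕ, ¬ Nonempty (G ≃* QuaternionGroup n))
    (hnd : ∀ n : ℕ, ¬ Nonempty (G ≃* DihedralGroup n)) (hnsd : ¬ Cfsg.IsQuasiDihedral G) :
    ∃ A : Subgroup G, A.Normal ∧ IsMulCommutative A ∧ ¬ IsCyclic A := by
  have hp : p.Prime := Fact.out
  by_contra hcon
  have hA : ∀ A : Subgroup G, A.Normal → IsMulCommutative A → IsCyclic A := by
    intro A h1 h2
    by_contra h3
    exact hcon ⟨A, h1, h2, h3⟩
  by_cases hm : ∃ B : Subgroup G, IsMulCommutative B ∧ ¬ IsCyclic B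
  · obtain ⟨-, hcase⟩ := Cfsg.Agent.S0519.result p hG hA hm
    rcases hcase with ⟨n, h⟩ | ⟨n, -, h⟩ | h
    · exact hnq n h
    · exact hnd n h
    · exact hnsd h
  · push Not at hm
    have key : ∀ x z : G, x * z = z * x → orderOf x = p → orderOf z = p →
        Subgroup.zpowers x = Subgroup.zpowers z := by
      intro x z hxz hx hz
      let B := Subgroup.closure {x, z}
      have hB : IsMulCommutative B := by
        refine Subgroup.isMulCommutative_closure ?_
        rintro a (rfl | rfl) b (rfl | rfl)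
        · rfl
        · exact hxz
        · exact hxz.symm
        · rfl
      have hcyc := hm B hB
      have hxB : x ∈ B := Subgroup.subset_closure (by simp)
      have hzB : z ∈ B := Subgroup.subset_closure (by simp)
      have h1 : Subgroup.zpowers (⟨x, hxB⟩ : B) = Subgroup.zpowers (⟨z, hzB⟩ : B) := by
        apply le_antisymm <;> rw [Subgroup.zpowers_le] <;> apply mem_zpowers_of_dvd <;>
          rw [Subgroup.orderOf_mk, Subgroup.orderOf_mk, hx, hz]
      have h2 := congrArg (Subgroup.map B.subtype) h1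
      rw [MonoidHom.map_zpowers, MonoidHom.map_zpowers] at h2
      exact h2
    rcases Cfsg.Agent.S0016.result p hG (Cfsg.Agent.Solvable.FpfPGroup.eq_of_card_eq hp hG key) with
      h | ⟨-, n, h⟩
    · exact hnc h
    · exact hnq _ h

theorem Conf.fx_pj (h : Conf p z b) (j : ℤ) (u : V) : Fx ρ z b j (pj ρ p z b j u) := by
  unfold Fx
  rw [pj_apply, map_sum]
  have h1 : ∀ k : ℕ, ρ (b * z ^ j) (ρ ((b * z ^ j) ^ k) u) = ρ ((b * z ^ j) ^ (k + 1)) u := by
    intro k
    rw [← LinearEquiv.mul_apply, ← map_mul, ← pow_succ']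
  rw [Finset.sum_congr rfl fun k _ => h1 k]
  have h2 := Finset.sum_range_succ (fun k : ℕ => ρ ((b * z ^ j) ^ k) u) p
  have h3 := Finset.sum_range_succ' (fun k : ℕ => ρ ((b * z ^ j) ^ k) u) p
  rw [h2] at h3
  have h4 : (b * z ^ j) ^ p = 1 := by
    rw [h.pow_bz, h.bp, one_mul]
    exact h.zpow_eq_one (Dvd.intro_left j rfl)
  rw [h4] at h3
  simp only [pow_zero] at h3
  exact (add_right_cancel h3).symm

theorem Conf.sum_pj [Fact p.Prime] (h : Conf p z b) (hirr : Irred ρ) (hρ : Function.Injective ρ) (v : V) :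
    ∑ j ∈ Finset.range p, pj ρ p z b (j : ℤ) v = (p : ZMod q) • v := by
  have hp : p.Prime := Fact.out
  have h1 : ∀ j : ℕ, pj ρ p z b (j : ℤ) v = ∑ k ∈ Finset.range p, ρ (b ^ k) (ρ (z ^ ((k : ℤ) * j)) v) := by
    intro j
    rw [pj_apply]
    apply Finset.sum_congr rfl
    intro k _
    rw [h.pow_bz, map_mul, LinearEquiv.mul_apply, mul_comm (j : ℤ)]
  rw [Finset.sum_congr rfl fun j _ => h1 j, Finset.sum_comm]
  have h2 : ∀ k ∈ Finset.range p, k ≠ 0 →
      ∑ j ∈ Finset.range p, ρ (b ^ k) (ρ (z ^ ((k : ℤ) * j)) v) = 0 := by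
    intro k hk hk0
    rw [← map_sum, h.zsum hirr hρ, map_zero]
    intro hd
    have := Nat.le_of_dvd (Nat.pos_of_ne_zero hk0) (Int.natCast_dvd_natCast.1 hd)
    rw [Finset.mem_range] at hk
    omega
  rw [Finset.sum_eq_single_of_mem 0 (Finset.mem_range.2 hp.pos) (fun k hk hk0 => h2 k hk hk0)]
  simp [Nat.cast_smul_eq_nsmul]

/-- the centraliser of `b` has index `p` -/
theorem Conf.index_eq [Fact p.Prime] [Finite G] (h : Conf p z b) {g₀ : G} {c : ℤ} (hc : ¬ (p : ℤ) ∣ c)
    (hg : g₀ * b * g₀⁻¹ = b * z ^ c) : (Subgroup.centralizer {b}).index = p := by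
  have hp : p.Prime := Fact.out
  have hκ : ∀ g : G, b⁻¹ * (g * b * g⁻¹) ∈ Subgroup.zpowers z := by
    intro g
    obtain ⟨i, hi⟩ := h.conj g
    rw [hi, inv_mul_cancel_left]
    exact Subgroup.zpow_mem_zpowers _ _
  have hcen : ∀ x ∈ Subgroup.zpowers z, ∀ g : G, g * x = x * g := by
    intro x hx g
    obtain ⟨k, rfl⟩ := Subgroup.mem_zpowers_iff.1 hx
    exact h.zpc k g
  let κ : G →* Subgroup.zpowers z :=
    { toFun := fun g => ⟨b⁻¹ * (g * b * g⁻¹), hκ g⟩
      map_one' := Subtype.ext (by simp)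
      map_mul' := by
        intro g k
        apply Subtype.ext
        show b⁻¹ * (g * k * b * (g * k)⁻¹) = b⁻¹ * (g * b * g⁻¹) * (b⁻¹ * (k * b * k⁻¹))
        have h1 := hcen _ (hκ k) g⁻¹
        calc b⁻¹ * (g * k * b * (g * k)⁻¹) = b⁻¹ * g * b * ((b⁻¹ * (k * b * k⁻¹)) * g⁻¹) := by group
          _ = b⁻¹ * g * b * (g⁻¹ * (b⁻¹ * (k * b * k⁻¹))) := by rw [h1]
          _ = _ := by group }
  have hκval : ∀ g, ((κ g : Subgroup.zpowers z) : G) = b⁻¹ * (g * b * g⁻¹) := fun g => rfl
  have hker : κ.ker = Subgroup.centralizer {b} := by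
    ext g
    rw [MonoidHom.mem_ker, Subgroup.mem_centralizer_singleton_iff, ← Subtype.coe_inj, hκval]
    constructor
    · intro h1
      have h2 : g * b * g⁻¹ = b := by
        have := congrArg (b * ·) h1
        simpa using this
      exact mul_inv_eq_iff_eq_mul.1 h2
    · intro h1
      rw [h1]
      simp
  have hcard : Nat.card (Subgroup.zpowers z) = p := by rw [Nat.card_zpowers, h.zo]
  have hrange : κ.range = ⊤ := by
    haveI : Fact (Nat.card (Subgroup.zpowers z)).Prime := ⟨by rw [hcard]; exact hp⟩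
    rcases Subgroup.eq_bot_or_eq_top_of_prime_card κ.range with h1 | h1
    · exfalso
      have h2 : κ g₀ ∈ κ.range := ⟨g₀, rfl⟩
      rw [h1, Subgroup.mem_bot, ← Subtype.coe_inj, hκval, hg, inv_mul_cancel_left] at h2
      exact h.zpow_ne_one hc h2
    · exact h1
  rw [← hker, Subgroup.index_ker, hrange, Subgroup.card_top, hcard]

theorem Conf.imprim [Fact p.Prime] [Finite G] [Fact q.Prime] [Nontrivial V] (h : Conf p z b)
    (hirr : Irred ρ) (hρ : Function.Injective ρ) (hpq : (p : ZMod q) ≠ 0) :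
    ∃ (H : Subgroup G) (W : Fin p → Submodule (ZMod q) V), H.index = p ∧
      iSup W = ⊤ ∧ iSupIndep W ∧
      (∀ h ∈ H, ∀ i, ∀ w ∈ W i, ρ h w ∈ W i) ∧
      (∀ i, ∃ h ∈ H, h ≠ 1 ∧ ∀ w ∈ W i, ρ h w = w) ∧
      ∀ g : G, g ∉ H → ∃ σ : Equiv.Perm (Fin p), orderOf σ = p ∧
        ∀ i, (W i).map (ρ g : V →ₗ[ZMod q] V) = W (σ i) := by
  have hp : p.Prime := Fact.out
  haveI : NeZero p := ⟨hp.ne_zero⟩
  obtain ⟨g₀, c₀, hc₀, hg₀⟩ := h.exists_move hirr hρ hpq
  let W : Fin p → Submodule (ZMod q) V := fun i => blk ρ (b * z ^ ((i : ℕ) : ℤ))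
  have hWmem : ∀ i v, v ∈ W i ↔ Fx ρ z b ((i : ℕ) : ℤ) v := fun i v => Iff.rfl
  refine ⟨Subgroup.centralizer {b}, W, h.index_eq hc₀ hg₀, ?_, ?_, ?_, ?_, ?_⟩
  · rw [eq_top_iff]
    intro v _
    have h1 := h.sum_pj hirr hρ v
    have h2 : ∑ j ∈ Finset.range p, pj ρ p z b (j : ℤ) v ∈ iSup W := by
      refine Submodule.sum_mem _ fun j hj => ?_
      have hj' := Finset.mem_range.1 hj
      exact Submodule.mem_iSup_of_mem (⟨j, hj'⟩ : Fin p) ((hWmem ⟨j, hj'⟩ _).2 (h.fx_pj _ _))
    rw [h1] at h2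
    have h3 := Submodule.smul_mem _ ((p : ZMod q)⁻¹) h2
    rwa [smul_smul, inv_mul_cancel₀ hpq, one_smul] at h3
  · intro i
    rw [Submodule.disjoint_def]
    intro v hv hv'
    have hle : (⨆ j, ⨆ (_ : j ≠ i), W j) ≤ LinearMap.ker (pj ρ p z b ((i : ℕ) : ℤ)) := by
      refine iSup_le fun j => iSup_le fun hji => ?_
      intro w hw
      rw [LinearMap.mem_ker]
      refine h.pj_ne hirr hρ ?_ ((hWmem j w).1 hw)
      intro hd
      apply hji
      have hi := i.2
      have hj := j.2
      have h1 : ((j : ℕ) : ℤ) - ((i : ℕ) : ℤ) = 0 := by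
        apply Int.eq_zero_of_abs_lt_dvd hd
        rw [abs_lt]
        constructor <;> omega
      exact Fin.ext (by omega)
    have h1 := hle hv'
    rw [LinearMap.mem_ker, h.pj_self (by simp) ((hWmem i v).1 hv)] at h1
    exact (smul_eq_zero.1 h1).resolve_left hpq
  · intro g hg i w hw
    have h1 : g * b * g⁻¹ = b * z ^ (0 : ℤ) := by
      rw [zpow_zero, mul_one]
      exact mul_inv_eq_iff_eq_mul.2 (Subgroup.mem_centralizer_singleton_iff.1 hg)
    have h2 := h.fx_shift (ρ := ρ) h1 ((hWmem i w).1 hw)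
    rw [add_zero] at h2
    exact h2
  · intro i
    refine ⟨b * z ^ ((i : ℕ) : ℤ), ?_, ?_, fun w hw => hw⟩
    · rw [Subgroup.mem_centralizer_singleton_iff]
      rw [mul_assoc, ← h.zpc]
    · intro h1
      apply h.bz
      rw [mul_eq_one_iff_eq_inv] at h1
      rw [h1]
      exact Subgroup.inv_mem _ (Subgroup.zpow_mem_zpowers _ _)
  · intro g hg
    obtain ⟨c, hc⟩ := h.conj g
    have hpc : ¬ (p : ℤ) ∣ c := by
      intro hd
      apply hg
      rw [h.zpow_eq_one hd, mul_one] at hc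
      rw [Subgroup.mem_centralizer_singleton_iff]
      exact mul_inv_eq_iff_eq_mul.1 hc
    let c' : Fin p := Fin.ofNat p (c % p).toNat
    have hpos : (0 : ℤ) < p := by exact_mod_cast hp.pos
    have hc'val : ((c' : ℕ) : ℤ) = c % p := by
      have h1 : 0 ≤ c % p := Int.emod_nonneg _ hpos.ne'
      have h2 : c % p < p := Int.emod_lt_of_pos _ hpos
      have h3 : (c % p).toNat < p := by omega
      simp only [c', Fin.ofNat]
      rw [Nat.mod_eq_of_lt h3]
      exact Int.toNat_of_nonneg h1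
    have hadd : ∀ i : Fin p, (p : ℤ) ∣ ((i : ℕ) : ℤ) + c - (((i + c' : Fin p) : ℕ) : ℤ) := by
      intro i
      rw [Fin.val_add]
      push_cast
      rw [hc'val]
      apply Int.dvd_of_emod_eq_zero
      rw [Int.sub_emod, Int.emod_emod_of_dvd _ (dvd_refl _), ← Int.sub_emod]
      have : ((i : ℕ) : ℤ) + c - (((i : ℕ) : ℤ) + c % p) = c - c % p := by ring
      rw [this]
      exact Int.emod_eq_zero_of_dvd (Int.dvd_self_sub_emod)
    refine ⟨Equiv.addRight c', ?_, ?_⟩
    · apply orderOf_eq_prime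
      · have h1 : ∀ k : ℕ, (Equiv.addRight c' : Equiv.Perm (Fin p)) ^ k = Equiv.addRight (k • c') := by
          intro k
          induction k with
          | zero => ext i; simp
          | succ k ih =>
            ext i
            rw [pow_succ, ih]
            simp only [Equiv.Perm.mul_apply, Equiv.coe_addRight, succ_nsmul]
            rw [add_assoc, add_comm c']
        rw [h1]
        have h2 : p • c' = 0 := by
          have := card_nsmul_eq_zero (x := c')
          rwa [Fintype.card_fin] at this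
        rw [h2]
        ext i; simp
      · intro h1
        have h2 := congrArg (fun σ : Equiv.Perm (Fin p) => σ 0) h1
        simp only [Equiv.coe_addRight, zero_add, Equiv.Perm.coe_one, id_eq] at h2
        rw [h2] at hc'val
        apply hpc
        apply Int.dvd_of_emod_eq_zero
        rw [← hc'val]
        simp
    · intro i
      apply le_antisymm
      · rintro _ ⟨w, hw, rfl⟩
        have h2 := h.fx_shift (ρ := ρ) hc ((hWmem i w).1 hw)
        exact h.fx_congr (hadd i) h2
      · intro w hw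
        have hw' := (hWmem _ w).1 hw
        have hginv : g⁻¹ * b * g⁻¹⁻¹ = b * z ^ (-c) := by
          have h3 : b = g⁻¹ * (b * z ^ c) * g := by rw [← hc]; group
          rw [inv_inv]
          have h4 : g⁻¹ * (b * z ^ c) * g = (g⁻¹ * b * g) * z ^ c := by
            rw [← mul_assoc g⁻¹ b, mul_assoc (g⁻¹ * b), ← h.zpc c g]; group
          rw [h4] at h3
          rw [zpow_neg]
          exact eq_mul_inv_of_mul_eq h3.symm
        have h2 := h.fx_shift (ρ := ρ) hginv hw'
        have h3 : Fx ρ z b ((i : ℕ) : ℤ) (ρ g⁻¹ w) := by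
          refine h.fx_congr ?_ h2
          have h4 := hadd i
          simp only [Equiv.coe_addRight]
          have h5 : (((i + c' : Fin p) : ℕ) : ℤ) + -c - ((i : ℕ) : ℤ) =
              -(((i : ℕ) : ℤ) + c - (((i + c' : Fin p) : ℕ) : ℤ)) := by ring
          rw [h5]
          exact (dvd_neg).2 h4
        refine ⟨ρ g⁻¹ w, h3, ?_⟩
        exact self_apply_inv ρ g w

end Cfsg.Agent.H351.HT
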